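import Mathlib.Topology.Sheaves.Skyscraper
import Mathlib.Topology.Sheaves.Functors
import Mathlib.Topology.Sheaves.Stalks
import Mathlib.CategoryTheory.Limits.Types.Colimits
import Mathlib.CategoryTheory.Limits.Types.Limits
import Mathlib.CategoryTheory.Sites.LeftExact

/-! Stalks of inverse images of sheaves of sets. -/

universe u

open CategoryTheory Limits TopologicalSpace Opposite TopCat

namespace Groth.Agent.EtPBC50

variable {Z X : TopCat.{u}} (f : Z ⟶ X)

/-- The unit of inverse image ⊣ direct image, on presheaves. -/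
noncomputable def unitPre (F : TopCat.Sheaf (Type u) X) :
    F.obj ⟶ (Presheaf.pushforward (Type u) f).obj ((TopCat.Sheaf.pullback (Type u) f).obj F).obj :=
  ((TopCat.Sheaf.pullbackPushforwardAdjunction (Type u) f).unit.app F).hom

/-- The comparison map on stalks. -/
noncomputable def stalkUnit (F : TopCat.Sheaf (Type u) X) (x : Z) :
    TopCat.Presheaf.stalk F.obj (f x) ⟶ TopCat.Presheaf.stalk ((TopCat.Sheaf.pullback (Type u) f).obj F).obj x :=
  (Presheaf.stalkFunctor (Type u) (f x)).map (unitPre f F) ≫
    Presheaf.stalkPushforward (Type u) f ((TopCat.Sheaf.pullback (Type u) f).obj F).obj x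

lemma germ_stalkUnit (F : TopCat.Sheaf (Type u) X) (x : Z) (U : Opens X) (hU : f x ∈ U) :
    TopCat.Presheaf.germ F.obj U (f x) hU ≫ stalkUnit f F x =
      (unitPre f F).app (op U) ≫
        TopCat.Presheaf.germ ((TopCat.Sheaf.pullback (Type u) f).obj F).obj ((Opens.map f).obj U) x hU := by
  rw [stalkUnit]
  erw [Presheaf.stalkFunctor_map_germ_assoc, Presheaf.stalkPushforward_germ]

lemma germ_stalkUnit_apply (F : TopCat.Sheaf (Type u) X) (x : Z) (U : Opens X) (hU : f x ∈ U)
    (t : F.obj.obj (op U)) :
    stalkUnit f F x (TopCat.Presheaf.germ F.obj U (f x) hU t) =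
      TopCat.Presheaf.germ ((TopCat.Sheaf.pullback (Type u) f).obj F).obj ((Opens.map f).obj U) x hU
        ((unitPre f F).app (op U) t) :=
  ConcreteCategory.congr_hom (germ_stalkUnit f F x U hU) t

open StalkSkyscraperPresheafAdjunctionAuxs in
instance isIso_stalkUnit (F : TopCat.Sheaf (Type u) X) (x : Z) : IsIso (stalkUnit f F x) := by
  classical
  let adj := TopCat.Sheaf.pullbackPushforwardAdjunction (Type u) f
  let A := TopCat.Presheaf.stalk F.obj (f x)
  let S : Type u → TopCat.Sheaf (Type u) Z := fun B => skyscraperSheaf x B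
  let P := TopCat.Sheaf.pullback (Type u) f
  have key : ∀ (B : Type u) (g : P.obj F ⟶ S B),
      fromStalk (f x) (show F.obj ⟶ skyscraperPresheaf (f x) B from
        unitPre f F ≫ (Presheaf.pushforward (Type u) f).map g.hom) =
        stalkUnit f F x ≫ fromStalk x g.hom := fun B g => by
    refine TopCat.Presheaf.stalk_hom_ext _ fun U hU => ?_
    refine (germ_fromStalk (f x) _ U hU).trans ?_
    rw [← Category.assoc, germ_stalkUnit, Category.assoc]
    erw [germ_fromStalk, Category.assoc]
  let ψ : F ⟶ (TopCat.Sheaf.pushforward (Type u) f).obj (S A) :=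
    ⟨show F.obj ⟶ skyscraperPresheaf (f x) A from toSkyscraperPresheaf (f x) (𝟙 A)⟩
  have h1 : stalkUnit f F x ≫ fromStalk x ((adj.homEquiv F (S A)).symm ψ).hom = 𝟙 _ := by
    refine (key A _).symm.trans ?_
    refine (congrArg (fromStalk (f x)) (show _ = toSkyscraperPresheaf (f x) (𝟙 A) from
      congrArg (fun φ => φ.hom) ((adj.homEquiv_unit F (S A) _).symm.trans
        ((adj.homEquiv F (S A)).apply_symm_apply ψ)))).trans ?_
    exact fromStalk_to_skyscraper _ _
  have h2 : Epi (stalkUnit f F x) := by
    refine ⟨fun {B} g₁ g₂ hg => ?_⟩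
    let k : ∀ g : TopCat.Presheaf.stalk (P.obj F).obj x ⟶ B, P.obj F ⟶ S B :=
      fun g => ⟨toSkyscraperPresheaf x g⟩
    have hk : k g₁ = k g₂ := by
      apply (adj.homEquiv F (S B)).injective
      refine (adj.homEquiv_unit F (S B) (k g₁)).trans (Eq.trans ?_ (adj.homEquiv_unit F (S B) (k g₂)).symm)
      apply CategoryTheory.Sheaf.hom_ext
      change (show F.obj ⟶ skyscraperPresheaf (f x) B from
        unitPre f F ≫ (Presheaf.pushforward (Type u) f).map (k g₁).hom) =
        (show F.obj ⟶ skyscraperPresheaf (f x) B from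
          unitPre f F ≫ (Presheaf.pushforward (Type u) f).map (k g₂).hom)
      rw [← to_skyscraper_fromStalk (f x) (show F.obj ⟶ skyscraperPresheaf (f x) B from
          unitPre f F ≫ (Presheaf.pushforward (Type u) f).map (k g₁).hom),
        ← to_skyscraper_fromStalk (f x) (show F.obj ⟶ skyscraperPresheaf (f x) B from
          unitPre f F ≫ (Presheaf.pushforward (Type u) f).map (k g₂).hom)]
      refine congrArg _ ((key B (k g₁)).trans (Eq.trans ?_ (key B (k g₂)).symm))
      refine (congrArg (stalkUnit f F x ≫ ·) (fromStalk_to_skyscraper x g₁)).trans (hg.trans ?_)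
      exact (congrArg (stalkUnit f F x ≫ ·) (fromStalk_to_skyscraper x g₂)).symm
    have := congrArg (fun φ => fromStalk x φ.hom) hk
    simpa only [k, fromStalk_to_skyscraper] using this
  exact ⟨_, h1, by rw [← cancel_epi (stalkUnit f F x), ← Category.assoc, h1]; simp⟩

lemma stalkUnit_bijective (F : TopCat.Sheaf (Type u) X) (x : Z) : Function.Bijective (stalkUnit f F x) :=
  ConcreteCategory.bijective_of_isIso _

end Groth.Agent.EtPBC50
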