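import Groth.Agent.EtPBC50.StalkPullType
import Groth.Agent.SpecSp50.Basic
import Mathlib.Topology.Sheaves.SheafCondition.UniqueGluing
import Mathlib.Topology.LocallyConstant.Basic

/-! Sections over a closed subset meeting every closure of a point in a connected set. -/

set_option autoImplicit false

universe u

open CategoryTheory Limits TopologicalSpace Opposite TopCat Set Topology

namespace Groth.Agent.EtPBC50

variable {X : TopCat.{u}} [SpectralSpace X] {Z : Set X}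

/-- The inclusion of a subset. -/
abbrev incl (Z : Set X) : TopCat.of Z ⟶ X :=
  TopCat.ofHom ⟨(Subtype.val : Z → X), continuous_subtype_val⟩

theorem isClosed_cons_gen {K : Set X} (hK : IsCompact K) :
    IsClosed[constructibleTopology X] {x : X | ∃ w ∈ K, x ⤳ w} := by
  have key : {x : X | ∃ w ∈ K, x ⤳ w} = ⋂₀ {W : Set X | IsOpen W ∧ IsCompact W ∧ K ⊆ W} := by
    ext x
    refine ⟨fun ⟨w, hw, hxw⟩ W hW => hxw.mem_open hW.1 (hW.2.2 hw), fun hx => ?_⟩
    by_contra hne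
    simp only [mem_ofPred_eq, not_exists, not_and] at hne
    have : ∀ w ∈ K, ∃ W : Set X, IsOpen W ∧ IsCompact W ∧ w ∈ W ∧ x ∉ W := fun w hw => by
      obtain ⟨V, hVo, hwV, hxV⟩ := not_specializes_iff_exists_open.1 (hne w hw)
      obtain ⟨W, ⟨hWo, hWc⟩, hwW, hWV⟩ :=
        (PrespectralSpace.isTopologicalBasis (X := X)).exists_subset_of_mem_open hwV hVo
      exact ⟨W, hWo, hWc, hwW, fun h => hxV (hWV h)⟩
    choose W hWo hWc hwW hxW using this
    obtain ⟨t, ht⟩ := hK.elim_finite_subcover (fun w : K => W w w.2) (fun w => hWo w w.2)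
      (fun w hw => mem_iUnion.2 ⟨⟨w, hw⟩, hwW w hw⟩)
    have := hx (⋃ w ∈ t, W w.1 w.2) ⟨isOpen_biUnion fun w _ => hWo w.1 w.2,
      t.isCompact_biUnion fun w _ => hWc w.1 w.2, ht⟩
    simp only [mem_iUnion] at this
    obtain ⟨w, -, hw⟩ := this
    exact hxW w.1 w.2 hw
  rw [key]
  exact @isClosed_sInter X (constructibleTopology X) _ fun W hW =>
    SpecSp50.isClosed_cons_of_qc hW.1 hW.2.1

variable (F : TopCat.Sheaf (Type u) X)

omit [SpectralSpace X] in
theorem germ_specializes {x y : X} (h : x ⤳ y) {U : Opens X} (hy : y ∈ U) (s : F.obj.obj (op U)) :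
    TopCat.Presheaf.stalkSpecializes F.obj h (TopCat.Presheaf.germ F.obj U y hy s) =
      TopCat.Presheaf.germ F.obj U x (h.mem_open U.isOpen hy) s :=
  ConcreteCategory.congr_hom (TopCat.Presheaf.germ_stalkSpecializes F.obj hy h) s

omit [SpectralSpace X] in
theorem specializes_trans_apply {x y z : X} (h : x ⤳ y) (h' : y ⤳ z)
    (a : TopCat.Presheaf.stalk F.obj z) :
    TopCat.Presheaf.stalkSpecializes F.obj h (TopCat.Presheaf.stalkSpecializes F.obj h' a) =
      TopCat.Presheaf.stalkSpecializes F.obj (h.trans h') a :=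
  ConcreteCategory.congr_hom (TopCat.Presheaf.stalkSpecializes_comp F.obj h h') a

omit [SpectralSpace X] in
theorem unit_injective (hconn : ∀ x : X, IsConnected (Z ∩ closure {x})) :
    Function.Injective ((unitPre (incl Z) F).app (op ⊤)) := by
  intro s t hst
  refine TopCat.Presheaf.section_ext F ⊤ s t fun x _ => ?_
  obtain ⟨z, hzZ, hzx⟩ := (hconn x).nonempty
  have hxz : x ⤳ z := specializes_iff_mem_closure.2 hzx
  have h : TopCat.Presheaf.germ F.obj ⊤ z trivial s = TopCat.Presheaf.germ F.obj ⊤ z trivial t := by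
    apply (stalkUnit_bijective (incl Z) F ⟨z, hzZ⟩).1
    refine (germ_stalkUnit_apply (incl Z) F ⟨z, hzZ⟩ ⊤ trivial s).trans
      (Eq.trans ?_ (germ_stalkUnit_apply (incl Z) F ⟨z, hzZ⟩ ⊤ trivial t).symm)
    rw [hst]
  have := congrArg (TopCat.Presheaf.stalkSpecializes F.obj hxz) h
  rwa [germ_specializes, germ_specializes] at this

theorem exists_local_lift
    (σ : ((TopCat.Sheaf.pullback (Type u) (incl Z)).obj F).obj.obj (op ((Opens.map (incl Z)).obj ⊤))) (z : Z) :
    ∃ (U : Opens X) (s : F.obj.obj (op U)), IsCompact (U : Set X) ∧ z.1 ∈ U ∧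
      ∀ (w : Z) (hw : w.1 ∈ U), stalkUnit (incl Z) F w (TopCat.Presheaf.germ F.obj U w.1 hw s) =
        TopCat.Presheaf.germ ((TopCat.Sheaf.pullback (Type u) (incl Z)).obj F).obj _ w
          (show w ∈ (Opens.map (incl Z)).obj ⊤ from trivial) σ := by
  let G := (TopCat.Sheaf.pullback (Type u) (incl Z)).obj F
  obtain ⟨a, ha⟩ := (stalkUnit_bijective (incl Z) F z).2
    (TopCat.Presheaf.germ G.obj _ z (show z ∈ (Opens.map (incl Z)).obj ⊤ from trivial) σ)
  obtain ⟨U₀, hzU₀, s, rfl⟩ := TopCat.Presheaf.exists_germ_eq F.obj a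
  rw [germ_stalkUnit_apply] at ha
  obtain ⟨W, hzW, i₁, i₂, hW⟩ := TopCat.Presheaf.germ_eq G.obj z _ _ _ _ ha
  obtain ⟨V, hVo, hV⟩ := isOpen_induced_iff.1 W.isOpen
  obtain ⟨U, ⟨hUo, hUc⟩, hzU, hUV⟩ :=
    (PrespectralSpace.isTopologicalBasis (X := X)).exists_subset_of_mem_open
      (show z.1 ∈ V ∩ (U₀ : Set X) from
        ⟨show z ∈ Subtype.val ⁻¹' V from hV.symm ▸ hzW, hzU₀⟩) (hVo.inter U₀.isOpen)
  let U' : Opens X := ⟨U, hUo⟩
  have hle : U' ≤ U₀ := fun x hx => (hUV hx).2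
  refine ⟨U', F.obj.map (homOfLE hle).op s, hUc, hzU, fun w hw => ?_⟩
  rw [TopCat.Presheaf.germ_res_apply F.obj (homOfLE hle) w.1 hw s]
  refine (germ_stalkUnit_apply (incl Z) F w U₀ (hle hw) s).trans ?_
  have hwW : w ∈ W := show w ∈ (W : Set Z) from hV ▸ (hUV hw).1
  rw [← TopCat.Presheaf.germ_res_apply G.obj i₁ w hwW, ← TopCat.Presheaf.germ_res_apply G.obj i₂ w hwW]
  exact congrArg _ hW

theorem inter_open {Y : Type*} (t : TopologicalSpace Y) {a b : Set Y} (ha : IsOpen[t] a)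
    (hb : IsOpen[t] b) : IsOpen[t] (a ∩ b) :=
  ha.inter hb

theorem inter_closed {Y : Type*} (t : TopologicalSpace Y) {a b : Set Y} (ha : IsClosed[t] a)
    (hb : IsClosed[t] b) : IsClosed[t] (a ∩ b) :=
  ha.inter hb

theorem unit_surjective (hZ : IsClosed Z) (hconn : ∀ x : X, IsConnected (Z ∩ closure {x})) :
    Function.Surjective ((unitPre (incl Z) F).app (op ⊤)) := by
  intro σ
  let G := (TopCat.Sheaf.pullback (Type u) (incl Z)).obj F
  choose U s hUc hzU hs using exists_local_lift F σ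
  -- germs of the section to be built
  choose g hg using fun w : Z => (stalkUnit_bijective (incl Z) F w).2
    (TopCat.Presheaf.germ G.obj _ w (show w ∈ (Opens.map (incl Z)).obj ⊤ from trivial) σ)
  have hgs : ∀ (z w : Z) (hw : w.1 ∈ U z), g w = TopCat.Presheaf.germ F.obj (U z) w.1 hw (s z) :=
    fun z w hw => (stalkUnit_bijective (incl Z) F w).1 ((hg w).trans (hs z w hw).symm)
  let τ : ∀ (x : X) (w : Z), x ⤳ w.1 → TopCat.Presheaf.stalk F.obj x :=
    fun x w h => TopCat.Presheaf.stalkSpecializes F.obj h (g w)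
  have τ_eq : ∀ (x : X) (z w : Z) (h : x ⤳ w.1) (hw : w.1 ∈ U z),
      τ x w h = TopCat.Presheaf.germ F.obj (U z) x (h.mem_open (U z).isOpen hw) (s z) := by
    intro x z w h hw
    show TopCat.Presheaf.stalkSpecializes F.obj h (g w) = _
    rw [hgs z w hw, germ_specializes]
  have τ_const : ∀ (x : X) (w w' : Z) (h : x ⤳ w.1) (h' : x ⤳ w'.1), τ x w h = τ x w' h' := by
    intro x w w' h h'
    let C := (Z ∩ closure {x} : Set X)
    have : PreconnectedSpace C := Subtype.preconnectedSpace (hconn x).isPreconnected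
    let f : C → TopCat.Presheaf.stalk F.obj x := fun c =>
      τ x ⟨c.1, c.2.1⟩ (specializes_iff_mem_closure.2 c.2.2)
    have hf : IsLocallyConstant f := (IsLocallyConstant.iff_exists_open _).2 fun c =>
      ⟨(Subtype.val ⁻¹' (U ⟨c.1, c.2.1⟩ : Set X)), (U _).isOpen.preimage continuous_subtype_val,
        hzU ⟨c.1, c.2.1⟩, fun c' hc' => by
          show τ x _ _ = τ x _ _
          rw [τ_eq x ⟨c.1, c.2.1⟩ ⟨c'.1, c'.2.1⟩ _ hc', τ_eq x ⟨c.1, c.2.1⟩ ⟨c.1, c.2.1⟩ _ (hzU _)]⟩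
    exact hf.apply_eq_of_preconnectedSpace ⟨w.1, w.2, specializes_iff_mem_closure.1 h⟩
      ⟨w'.1, w'.2, specializes_iff_mem_closure.1 h'⟩
  -- a chosen specialisation in `Z`
  choose c hcZ hcx using fun x : X => (hconn x).nonempty
  let T : ∀ x : X, TopCat.Presheaf.stalk F.obj x := fun x =>
    τ x ⟨c x, hcZ x⟩ (specializes_iff_mem_closure.2 (hcx x))
  have T_eq : ∀ (x : X) (w : Z) (h : x ⤳ w.1), T x = τ x w h := fun x w h => τ_const x _ w _ h
  have T_spec : ∀ {x y : X} (h : x ⤳ y), T x = TopCat.Presheaf.stalkSpecializes F.obj h (T y) := by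
    intro x y h
    rw [T_eq x ⟨c y, hcZ y⟩ (h.trans (specializes_iff_mem_closure.2 (hcx y)))]
    exact (specializes_trans_apply F h (specializes_iff_mem_closure.2 (hcx y)) (g ⟨c y, hcZ y⟩)).symm
  let Good : Z → Set X := fun z => {x | ∃ hx : x ∈ U z, TopCat.Presheaf.germ F.obj (U z) x hx (s z) = T x}
  have hopen : ∀ z, IsOpen (Good z) := by
    intro z
    refine SpecSp50.isOpen_of_stableUnderGeneralization ?_ ?_
    · obtain ⟨L, hL⟩ := hZ.isCompact.elim_finite_subcover (fun l : Z => (U l : Set X))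
        (fun l => (U l).isOpen) (fun x hx => mem_iUnion.2 ⟨⟨x, hx⟩, hzU ⟨x, hx⟩⟩)
      let Eq' : Z → Set X := fun l => {x | ∃ (h : x ∈ U z) (h' : x ∈ U l),
        TopCat.Presheaf.germ F.obj (U z) x h (s z) = TopCat.Presheaf.germ F.obj (U l) x h' (s l)}
      have hE : ∀ l, IsOpen (Eq' l) := fun l => isOpen_iff_forall_mem_open.2 fun x ⟨h, h', e⟩ => by
        obtain ⟨W, hxW, i₁, i₂, hW⟩ := TopCat.Presheaf.germ_eq F.obj x h h' _ _ e
        refine ⟨W, fun y hy => ⟨i₁.le hy, i₂.le hy, ?_⟩, W.isOpen, hxW⟩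
        rw [← TopCat.Presheaf.germ_res_apply F.obj i₁ y hy, hW, TopCat.Presheaf.germ_res_apply F.obj i₂ y hy]
      let B : Z → Set X := fun l => ((U l : Set X) ∩ (Eq' l)ᶜ) ∩ {x | ∃ w ∈ Z ∩ (U l : Set X), x ⤳ w}
      have hB : ∀ l, IsClosed[constructibleTopology X] (B l) := fun l => by
        have h1 := SpecSp50.isClosed_cons_of_qc (U l).isOpen (hUc l)
        have h2 := SpecSp50.isClosed_cons_of_isClosed (hE l).isClosed_compl
        have h3 := isClosed_cons_gen ((hUc l).inter_left hZ)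
        exact inter_closed _ (inter_closed _ h1 h2) h3
      have key : Good z = (U z : Set X) ∩ ⋂ l ∈ L, (B l)ᶜ := by
        ext x
        refine ⟨fun ⟨hx, e⟩ => ⟨hx, mem_iInter₂.2 fun l _ => ?_⟩, fun ⟨hx, hB'⟩ => ?_⟩
        · rintro ⟨⟨hxl, hne⟩, w, ⟨hwZ, hwl⟩, hxw⟩
          exact hne ⟨hx, hxl, e.trans ((T_eq x ⟨w, hwZ⟩ hxw).trans (τ_eq x l ⟨w, hwZ⟩ hxw hwl))⟩
        · refine ⟨hx, ?_⟩
          have hxc : x ⤳ c x := specializes_iff_mem_closure.2 (hcx x)
          obtain ⟨l, hl, hcl⟩ := mem_iUnion₂.1 (hL (hcZ x))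
          have hxl : x ∈ U l := hxc.mem_open (U l).isOpen hcl
          have hnb := mem_iInter₂.1 hB' l hl
          have : x ∈ Eq' l := by_contra fun hne => hnb ⟨⟨hxl, hne⟩, c x, ⟨hcZ x, hcl⟩, hxc⟩
          obtain ⟨h, h', e⟩ := this
          exact e.trans (τ_eq x l ⟨c x, hcZ x⟩ hxc hcl).symm
      rw [key]
      exact inter_open _ (SpecSp50.isOpen_cons_of_isOpen (U z).isOpen)
        (@isOpen_biInter_finset X _ (constructibleTopology X) L _ fun l _ =>
          @IsClosed.isOpen_compl X (constructibleTopology X) _ (hB l))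
    · rintro y x hxy ⟨hy, e⟩
      exact ⟨hxy.mem_open (U z).isOpen hy, by rw [T_spec hxy, ← e, germ_specializes]⟩
  let O : Z → Opens X := fun z => ⟨Good z, hopen z⟩
  have hO : ∀ z, O z ≤ U z := fun z x hx => hx.1
  let sf : ∀ z, F.obj.obj (op (O z)) := fun z => F.obj.map (homOfLE (hO z)).op (s z)
  have hsf : ∀ z x (hx : x ∈ O z), TopCat.Presheaf.germ F.obj (O z) x hx (sf z) = T x := fun z x hx => by
    rw [TopCat.Presheaf.germ_res_apply F.obj (homOfLE (hO z)) x hx]
    exact hx.2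
  have hcover : (⊤ : Opens X) ≤ iSup O := fun x _ => by
    rw [Opens.mem_iSup]
    have hxc : x ⤳ c x := specializes_iff_mem_closure.2 (hcx x)
    exact ⟨⟨c x, hcZ x⟩, hxc.mem_open (U _).isOpen (hzU _),
      (τ_eq x _ ⟨c x, hcZ x⟩ hxc (hzU _)).symm⟩
  obtain ⟨t, ht, -⟩ := TopCat.Sheaf.existsUnique_gluing' F O ⊤ (fun z => homOfLE le_top) hcover sf
    (fun i j => TopCat.Presheaf.section_ext F _ _ _ fun x hx => by
      rw [TopCat.Presheaf.germ_res_apply F.obj _ x hx, TopCat.Presheaf.germ_res_apply F.obj _ x hx,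
        hsf i x hx.1, hsf j x hx.2])
  refine ⟨t, TopCat.Presheaf.section_ext G _ _ _ fun w _ => ?_⟩
  refine (germ_stalkUnit_apply (incl Z) F w ⊤ trivial t).symm.trans ((congrArg _ ?_).trans (hg w))
  obtain ⟨z, hz⟩ := Opens.mem_iSup.1 (hcover (show w.1 ∈ (⊤ : Opens X) from trivial))
  have e := TopCat.Presheaf.germ_res_apply F.obj (homOfLE (le_top : O z ≤ ⊤)) w.1 hz t
  refine e.symm.trans ?_
  rw [show (F.obj.map (homOfLE (le_top : O z ≤ ⊤)).op) t = sf z from ht z, hsf z w.1 hz,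
    T_eq w.1 w (specializes_refl _)]
  show TopCat.Presheaf.stalkSpecializes F.obj (specializes_refl w.1) (g w) = g w
  rw [TopCat.Presheaf.stalkSpecializes_refl]
  rfl

end Groth.Agent.EtPBC50
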